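import Groth.Prelude.Def_W4SpPerfMV
import Groth.Agent.Lib.QcohEt15.Site
import Groth.Agent.Lib.QcohEt15.Free
import Groth.Agent.Lib.DistSq15.Square
import Groth.Agent.Lib.AlgSpEt14.Basic

/-!
# The Mayer-Vietoris sequence of an elementary distinguished square of schemes over a space
-/

set_option autoImplicit false
set_option backward.isDefEq.respectTransparency false
set_option maxHeartbeats 800000
universe u

open CategoryTheory CategoryTheory.Limits AlgebraicGeometry Opposite AlgSp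

namespace Groth.Agent.MVEt32

open QcohEt15
open Groth.Agent.AlgSpace Groth.Agent.AlgSpDecent

variable {S : Scheme.{u}} {X : Space S} {U V : EtOver X.obj}

theorem hom_to_U (hsq : IsElemDistSq U.obj.hom V.obj.hom) {T : EtOver X.obj} (a b : T ⟶ U) : a = b := by
  haveI := DistSq15.mono_of_openImm hsq.1
  refine EtOver.hom_ext a b ((yon S).map_injective ?_)
  rw [← cancel_mono U.obj.hom, EtOver.w a, EtOver.w b]

theorem mem_range_snd (A W : EtOver X.obj) (x : ↥W.obj.left.left)
    (hx : Points.ofPt W.obj.hom x ∈ Set.range (Points.map A.obj.hom)) :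
    x ∈ Set.range (Limits.prod.snd : A ⨯ W ⟶ W).hom.left.left := by
  obtain ⟨z, hz⟩ := hx
  obtain ⟨v, -, hv⟩ := exists_pt_of_isPullback (A.property.1.isPullback W.obj.hom) hz
  let m : EtOver.prodObj W A ⟶ A ⨯ W := Limits.prod.lift (EtOver.prodSnd W A) (EtOver.prodFst W A)
  have e : m ≫ (Limits.prod.snd : A ⨯ W ⟶ W) = EtOver.prodFst W A := Limits.prod.lift_snd _ _
  refine ⟨m.hom.left.left v, ?_⟩
  have := congrArg (fun k => k.hom.left.left v) e
  exact this.trans hv

theorem cover_UV (hsq : IsElemDistSq U.obj.hom V.obj.hom) (W : EtOver X.obj) (x : ↥W.obj.left.left) :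
    x ∈ Set.range (Limits.prod.snd : U ⨯ W ⟶ W).hom.left.left ∨
      x ∈ Set.range (Limits.prod.snd : V ⨯ W ⟶ W).hom.left.left :=
  (DistSq15.mem_range_or hsq (Points.ofPt W.obj.hom x)).imp (mem_range_snd U W x) (mem_range_snd V W x)

theorem cover_VV (hsq : IsElemDistSq U.obj.hom V.obj.hom) {T : EtOver X.obj} (a b : T ⟶ V) :
    ∃ (E : EtOver X.obj) (ι : E ⟶ T), ι ≫ a = ι ≫ b ∧ ∀ x : ↥T.obj.left.left,
      x ∈ Set.range ι.hom.left.left ∨ x ∈ Set.range (Limits.prod.snd : U ⨯ T ⟶ T).hom.left.left := by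
  let D := EtOver.prodObj V V
  let ab : T ⟶ D := (BinaryFan.IsLimit.lift' (EtOver.prodIsLimit V V) a b).1
  have hab₁ : ab ≫ EtOver.prodFst V V = a := (BinaryFan.IsLimit.lift' (EtOver.prodIsLimit V V) a b).2.1
  have hab₂ : ab ≫ EtOver.prodSnd V V = b := (BinaryFan.IsLimit.lift' (EtOver.prodIsLimit V V) a b).2.2
  let δ : V ⟶ D := (BinaryFan.IsLimit.lift' (EtOver.prodIsLimit V V) (𝟙 V) (𝟙 V)).1
  have hδ₁ : δ ≫ EtOver.prodFst V V = 𝟙 V := (BinaryFan.IsLimit.lift' (EtOver.prodIsLimit V V) (𝟙 V) (𝟙 V)).2.1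
  have hδ₂ : δ ≫ EtOver.prodSnd V V = 𝟙 V := (BinaryFan.IsLimit.lift' (EtOver.prodIsLimit V V) (𝟙 V) (𝟙 V)).2.2
  haveI : Etale δ.hom.left.left := EtOver.etale_left δ
  haveI : Mono δ.hom.left.left := by
    haveI : IsSplitMono δ.hom.left.left :=
      ⟨⟨⟨(EtOver.prodFst V V).hom.left.left, congrArg (fun k => k.hom.left.left) hδ₁⟩⟩⟩
    infer_instance
  haveI : IsOpenImmersion δ.hom.left.left := IsOpenImmersion.of_flat_of_mono _
  let O : T.obj.left.left.Opens := ab.hom.left.left ⁻¹ᵁ δ.hom.left.left.opensRange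
  let E := AlgSpEt14.openSub T O
  let ι : E ⟶ T := AlgSpEt14.openSubι T O
  refine ⟨E, ι, ?_, fun x => ?_⟩
  · have hrange : Set.range (ι ≫ ab).hom.left.left ⊆ Set.range δ.hom.left.left := by
      rintro _ ⟨z, rfl⟩
      exact z.2
    let l := IsOpenImmersion.lift δ.hom.left.left (ι ≫ ab).hom.left.left hrange
    have hl : l ≫ δ.hom.left.left = (ι ≫ ab).hom.left.left := IsOpenImmersion.lift_fac _ _ _
    have h1 : (ι ≫ a).hom.left.left = l := by
      rw [← hab₁, ← Category.assoc]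
      show (ι ≫ ab).hom.left.left ≫ (EtOver.prodFst V V).hom.left.left = l
      rw [← hl, Category.assoc]
      exact (congrArg (l ≫ ·) (congrArg (fun k => k.hom.left.left) hδ₁)).trans (Category.comp_id _)
    have h2 : (ι ≫ b).hom.left.left = l := by
      rw [← hab₂, ← Category.assoc]
      show (ι ≫ ab).hom.left.left ≫ (EtOver.prodSnd V V).hom.left.left = l
      rw [← hl, Category.assoc]
      exact (congrArg (l ≫ ·) (congrArg (fun k => k.hom.left.left) hδ₂)).trans (Category.comp_id _)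
    exact EtOver.hom_ext _ _ (Over.OverMorphism.ext (h1.trans h2.symm))
  · by_cases hx : Points.ofPt T.obj.hom x ∈ Set.range (Points.map U.obj.hom)
    · exact Or.inr (mem_range_snd U T x hx)
    refine Or.inl ⟨⟨x, ?_⟩, rfl⟩
    let p : Over.mk (T.obj.left.left.fromSpecResidueField x ≫ T.obj.left.hom) ⟶ T.obj.left :=
      Over.homMk (T.obj.left.left.fromSpecResidueField x) rfl
    let t : ↥(Over.mk (T.obj.left.left.fromSpecResidueField x ≫ T.obj.left.hom)).left :=
      IsLocalRing.closedPoint (T.obj.left.left.residueField x)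
    have hpt : p.left t = x := T.obj.left.left.fromSpecResidueField_apply x t
    have e : ((yon S).map (p ≫ a.hom.left)) ≫ V.obj.hom = ((yon S).map (p ≫ b.hom.left)) ≫ V.obj.hom := by
      rw [Functor.map_comp, Functor.map_comp, Category.assoc, Category.assoc, EtOver.w a, EtOver.w b]
    have ht : Points.ofPt ((yon S).map (p ≫ a.hom.left) ≫ V.obj.hom) t ∉ Set.range (Points.map U.obj.hom) := by
      rw [Functor.map_comp, Category.assoc, EtOver.w a, ofPt_map_comp, hpt]
      exact hx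
    have heq : p ≫ a.hom.left = p ≫ b.hom.left :=
      (yon S).map_injective (DistSq15.eq_of_field_outside hsq _ _ e t ht)
    have key : p ≫ ab.hom.left = (p ≫ a.hom.left) ≫ δ.hom.left := by
      refine Functor.relativelyRepresentable.hom_ext' _ ?_ ?_
      · have h₁ : ab.hom.left ≫ (EtOver.prodSnd V V).hom.left = b.hom.left := congrArg (fun k => k.hom.left) hab₂
        have h₂ : δ.hom.left ≫ (EtOver.prodSnd V V).hom.left = 𝟙 _ := congrArg (fun k => k.hom.left) hδ₂
        show (p ≫ ab.hom.left) ≫ (EtOver.prodSnd V V).hom.left = _ ≫ (EtOver.prodSnd V V).hom.left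
        rw [Category.assoc, h₁, Category.assoc _ δ.hom.left, h₂, Category.comp_id, heq]
      · have h₁ : ab.hom.left ≫ (EtOver.prodFst V V).hom.left = a.hom.left := congrArg (fun k => k.hom.left) hab₁
        have h₂ : δ.hom.left ≫ (EtOver.prodFst V V).hom.left = 𝟙 _ := congrArg (fun k => k.hom.left) hδ₁
        show (p ≫ ab.hom.left) ≫ (EtOver.prodFst V V).hom.left = _ ≫ (EtOver.prodFst V V).hom.left
        rw [Category.assoc, h₁, Category.assoc _ δ.hom.left, h₂, Category.comp_id]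
    show ab.hom.left.left x ∈ Set.range δ.hom.left.left
    refine ⟨(p ≫ a.hom.left).left t, ?_⟩
    have := congrArg (fun k => k.left t) key
    exact this.symm.trans (congrArg ab.hom.left.left hpt)

/-- Two compatible sections on the members of a two-term covering glue. -/
theorem glue_two (F : ModEt X.obj) {A B T : EtOver X.obj} (f : A ⟶ T) (g : B ⟶ T)
    (hc : ∀ x : ↥T.obj.left.left, x ∈ Set.range f.hom.left.left ∨ x ∈ Set.range g.hom.left.left)
    (s : sectModEt F A) (t : sectModEt F B)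
    (hss : ∀ (Z : EtOver X.obj) (p q : Z ⟶ A), p ≫ f = q ≫ f → res F p s = res F q s)
    (hst : ∀ (Z : EtOver X.obj) (p : Z ⟶ A) (q : Z ⟶ B), p ≫ f = q ≫ g → res F p s = res F q t)
    (htt : ∀ (Z : EtOver X.obj) (p q : Z ⟶ B), p ≫ g = q ≫ g → res F p t = res F q t) :
    ∃ m : sectModEt F T, res F f m = s ∧ res F g m = t := by
  let Y : Bool → EtOver X.obj := fun i => cond i A B
  let k : ∀ i, Y i ⟶ T := fun i => match i with
    | true => f
    | false => g
  have hcov := ofArrows_mem_etTop Y k fun x => (hc x).elim (fun h => ⟨true, h⟩) fun h => ⟨false, h⟩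
  have hs := (Presieve.isSheafFor_iff_generate _).2 (isSheaf_sections F _ hcov)
  rw [Presieve.isSheafFor_arrows_iff] at hs
  let x : ∀ i, sectModEt F (Y i) := fun i => match i with
    | true => s
    | false => t
  obtain ⟨m, hm, -⟩ := hs x (fun i j Z p q h => match i, j with
    | true, true => hss Z p q h
    | true, false => hst Z p q h
    | false, true => (hst Z q p h.symm).symm
    | false, false => htt Z p q h)
  exact ⟨m, hm true, hm false⟩

theorem res_sub' (F : ModEt X.obj) {A B : EtOver X.obj} (g : B ⟶ A) (x y : sectModEt F A) :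
    res F g (x - y) = res F g x - res F g y := map_sub _ _ _

theorem ext_two (hsq : IsElemDistSq U.obj.hom V.obj.hom) (F : ModEt X.obj) (W : EtOver X.obj)
    {m m' : sectModEt F W}
    (hU : res F (Limits.prod.snd : U ⨯ W ⟶ W) m = res F Limits.prod.snd m')
    (hV : res F (Limits.prod.snd : V ⨯ W ⟶ W) m = res F Limits.prod.snd m') : m = m' := by
  refine sections_ext_family F (fun i : Bool => cond i (U ⨯ W) (V ⨯ W))
    (fun i => match i with | true => Limits.prod.snd | false => Limits.prod.snd)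
    (fun x => (cover_UV hsq W x).elim (fun h => ⟨true, h⟩) fun h => ⟨false, h⟩) fun i => ?_
  cases i
  · exact hV
  · exact hU

variable {P : EtOver X.obj}

theorem exact_sections (hsq : IsElemDistSq U.obj.hom V.obj.hom) (F : ModEt X.obj) (W : EtOver X.obj)
    {pU : P ⟶ U} {pV : P ⟶ V} (hP : IsLimit (BinaryFan.mk pU pV))
    (a : sectModEt F (U ⨯ W)) (b : sectModEt F (V ⨯ W))
    (h : res F (Limits.prod.map pU (𝟙 W)) a = res F (Limits.prod.map pV (𝟙 W)) b) :
    ∃ m : sectModEt F W, res F (Limits.prod.snd : U ⨯ W ⟶ W) m = a ∧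
      res F (Limits.prod.snd : V ⨯ W ⟶ W) m = b := by
  have hUV : ∀ (Z : EtOver X.obj) (p : Z ⟶ U ⨯ W) (q : Z ⟶ V ⨯ W), p ≫ Limits.prod.snd = q ≫ Limits.prod.snd →
      res F p a = res F q b := by
    intro Z p q e
    obtain ⟨l, hl₁, hl₂⟩ := BinaryFan.IsLimit.lift' hP (p ≫ Limits.prod.fst) (q ≫ Limits.prod.fst)
    change l ≫ pU = _ at hl₁
    change l ≫ pV = _ at hl₂
    have e₁ : Limits.prod.lift l (p ≫ Limits.prod.snd) ≫ Limits.prod.map pU (𝟙 W) = p := by
      ext <;> simp [hl₁]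
    have e₂ : Limits.prod.lift l (p ≫ Limits.prod.snd) ≫ Limits.prod.map pV (𝟙 W) = q := by
      ext <;> simp [hl₂, e]
    rw [← e₁, ← e₂]
    exact (res_comp ..).trans ((congrArg _ h).trans (res_comp ..).symm)
  have hUU : ∀ (Z : EtOver X.obj) (p q : Z ⟶ U ⨯ W), p ≫ Limits.prod.snd = q ≫ Limits.prod.snd →
      res F p a = res F q a := fun Z p q e => by rw [Limits.prod.hom_ext (hom_to_U hsq _ _) e]
  refine glue_two F _ _ (cover_UV hsq W) a b hUU hUV fun Z p q e => ?_
  obtain ⟨E, ι, hι, hc⟩ := cover_VV hsq (p ≫ Limits.prod.fst) (q ≫ Limits.prod.fst)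
  refine sections_ext_family F (fun i : Bool => cond i E (U ⨯ Z))
    (fun i => match i with | true => ι | false => Limits.prod.snd)
    (fun x => (hc x).elim (fun h => ⟨true, h⟩) fun h => ⟨false, h⟩) fun i => ?_
  cases i
  · let z : U ⨯ Z ⟶ U ⨯ W := Limits.prod.lift Limits.prod.fst (Limits.prod.snd ≫ p ≫ Limits.prod.snd)
    show res F Limits.prod.snd (res F p b) = res F Limits.prod.snd (res F q b)
    rw [← res_comp, ← res_comp, ← hUV _ z (Limits.prod.snd ≫ p) (by simp [z]),
      ← hUV _ z (Limits.prod.snd ≫ q) (by simp [z, e])]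
  · show res F ι (res F p b) = res F ι (res F q b)
    rw [← res_comp, ← res_comp, Limits.prod.hom_ext (f := ι ≫ p) (g := ι ≫ q) (by simpa using hι)
      (by simp [e])]

theorem surj_sections (hsq : IsElemDistSq U.obj.hom V.obj.hom) (F : ModEt X.obj)
    {pU : P ⟶ U} {pV : P ⟶ V} (hP : IsLimit (BinaryFan.mk pU pV)) (W : EtOver X.obj)
    (hW : Nonempty (W ⟶ U) ∨ Nonempty (W ⟶ V)) (s : sectModEt F (P ⨯ W)) :
    ∃ (a : sectModEt F (U ⨯ W)) (b : sectModEt F (V ⨯ W)),
      res F (Limits.prod.map pU (𝟙 W)) a - res F (Limits.prod.map pV (𝟙 W)) b = s := by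
  rcases hW with ⟨⟨σ⟩⟩ | ⟨⟨τ⟩⟩
  · obtain ⟨l, hl₁, hl₂⟩ := BinaryFan.IsLimit.lift' hP ((Limits.prod.snd : V ⨯ W ⟶ W) ≫ σ) Limits.prod.fst
    change l ≫ pU = _ at hl₁
    change l ≫ pV = _ at hl₂
    refine ⟨0, -res F (Limits.prod.lift l Limits.prod.snd) s, ?_⟩
    rw [map_zero, zero_sub, map_neg, neg_neg, ← res_comp]
    have : Limits.prod.map pV (𝟙 W) ≫ Limits.prod.lift l Limits.prod.snd = 𝟙 (P ⨯ W) := by
      refine Limits.prod.hom_ext ?_ (by simp)
      refine BinaryFan.IsLimit.hom_ext hP (hom_to_U hsq _ _) ?_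
      show ((_ ≫ _) ≫ pV) = _ ≫ pV
      simp [hl₂]
    rw [this]
    exact res_id ..

  · obtain ⟨l, hl₁, hl₂⟩ := BinaryFan.IsLimit.lift' hP (Limits.prod.fst : U ⨯ W ⟶ U) (Limits.prod.snd ≫ τ)
    change l ≫ pU = _ at hl₁
    change l ≫ pV = _ at hl₂
    let w : U ⨯ W ⟶ P ⨯ W := Limits.prod.lift l Limits.prod.snd
    let a := res F w s
    let r := s - res F (Limits.prod.map pU (𝟙 W)) a
    have hr : ∀ (Z : EtOver X.obj) (z : Z ⟶ P ⨯ W),
        z ≫ Limits.prod.fst ≫ pV = z ≫ Limits.prod.snd ≫ τ → res F z r = 0 := by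
      intro Z z hz
      have e : z ≫ Limits.prod.map pU (𝟙 W) ≫ w = z := by
        refine Limits.prod.hom_ext ?_ (by simp [w])
        refine BinaryFan.IsLimit.hom_ext hP (hom_to_U hsq _ _) ?_
        show ((_ ≫ _) ≫ pV) = _ ≫ pV
        simp [w, hl₂, hz]
      show res F z (s - res F (Limits.prod.map pU (𝟙 W)) (res F w s)) = 0
      rw [res_sub', ← res_comp, ← res_comp, Category.assoc, e, sub_self]
    obtain ⟨E, ι, hι, hc⟩ := cover_VV hsq (Limits.prod.fst : V ⨯ W ⟶ V) (Limits.prod.snd ≫ τ)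
    obtain ⟨l', hl₁', hl₂'⟩ := BinaryFan.IsLimit.lift' hP (Limits.prod.fst : U ⨯ (V ⨯ W) ⟶ U)
      (Limits.prod.snd ≫ Limits.prod.fst)
    change l' ≫ pU = _ at hl₁'
    change l' ≫ pV = _ at hl₂'
    let v : U ⨯ (V ⨯ W) ⟶ P ⨯ W := Limits.prod.lift l' (Limits.prod.snd ≫ Limits.prod.snd)
    obtain ⟨b, -, hb⟩ := glue_two F ι (Limits.prod.snd : U ⨯ (V ⨯ W) ⟶ V ⨯ W) hc (0 : sectModEt F E)
      (-res F v r) (fun Z p q _ => by simp) (fun Z p q e => by
        have h1 := congrArg (· ≫ Limits.prod.fst) e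
        have h2 := congrArg (· ≫ Limits.prod.snd) e
        simp only [Category.assoc] at h1 h2
        rw [map_zero, map_neg, ← res_comp, hr _ (q ≫ v) ?_, neg_zero]
        simp only [v, Category.assoc, Limits.prod.lift_fst_assoc, Limits.prod.lift_snd_assoc, hl₂']
        rw [← h1, ← reassoc_of% h2, hι])
      (fun Z p q e => by rw [Limits.prod.hom_ext (hom_to_U hsq _ _) e])
    refine ⟨a, b, ?_⟩
    let ε : P ⨯ W ⟶ U ⨯ (V ⨯ W) := Limits.prod.lift (Limits.prod.fst ≫ pU) (Limits.prod.map pV (𝟙 W))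
    have he : ε ≫ v = 𝟙 (P ⨯ W) := by
      refine Limits.prod.hom_ext ?_ (by simp [ε, v])
      refine BinaryFan.IsLimit.hom_ext hP (hom_to_U hsq _ _) ?_
      show ((_ ≫ _) ≫ pV) = _ ≫ pV
      simp [ε, v, hl₂']
    have hb' : res F (Limits.prod.map pV (𝟙 W)) b = -r := by
      rw [show Limits.prod.map pV (𝟙 W) = ε ≫ Limits.prod.snd by simp [ε]]
      refine (res_comp ..).trans ((congrArg _ hb).trans ((map_neg _ _).trans (congrArg Neg.neg ?_)))
      exact (res_comp ..).symm.trans ((congrArg (fun k => res F k r) he).trans (res_id ..))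
    rw [hb', sub_neg_eq_add]
    exact add_sub_cancel _ _

end Groth.Agent.MVEt32
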