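import Groth.Agent.Lib.MVEt32.Basic
import Groth.Agent.Lib.QcohEt15.Kernel
import Groth.Agent.Lib.QcohEt15.Coprod
import Mathlib.Algebra.Homology.ShortComplex.ShortExact

/-!
# The Mayer-Vietoris short exact sequence
-/

set_option autoImplicit false
set_option backward.isDefEq.respectTransparency false
set_option maxHeartbeats 4000000
universe u

open CategoryTheory CategoryTheory.Limits AlgebraicGeometry Opposite AlgSp

namespace Groth.Agent.MVEt32

open QcohEt15

variable {S : Scheme.{u}} {X : Space S}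

theorem mono_of_injective {M N : ModEt X.obj} (φ : M ⟶ N) (h : ∀ E, Function.Injective (appₗ φ E)) : Mono φ := by
  refine ⟨fun {Z} a b e => ?_⟩
  ext ⟨E⟩ z
  refine h E ?_
  exact congrArg (fun k => appₗ k E z) e

theorem epi_of_local {M N : ModEt X.obj} (φ : M ⟶ N)
    (h : ∀ (E : EtOver X.obj) (n : sectModEt N E), ∃ R ∈ etTop X.obj E, ∀ ⦃Y : EtOver X.obj⦄ (k : Y ⟶ E),
      R k → ∃ m, appₗ φ Y m = res N k n) : Epi φ := by
  have h' : Sheaf.IsLocallySurjective ((SheafOfModules.toSheaf (OEtRing X.obj)).map φ) := by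
    constructor
    intro E n
    obtain ⟨R, hR, hm⟩ := h E n
    exact (etTop X.obj).superset_covering (fun Y k hk => hm k hk) hR
  exact (SheafOfModules.toSheaf (OEtRing X.obj)).epi_of_epi_map inferInstance

theorem exact_of_sections (T : ShortComplex (ModEt X.obj))
    (h : ∀ (W : EtOver X.obj) (t : sectModEt T.X₂ W), appₗ T.g W t = 0 → ∃ m, appₗ T.f W m = t) : T.Exact := by
  rw [ShortComplex.exact_iff_epi_kernel_lift]
  refine epi_of_local _ fun W c => ⟨⊤, (etTop X.obj).top_mem W, fun Z g _ => ?_⟩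
  obtain ⟨m, hm⟩ := h Z (appₗ (kernel.ι T.g) Z (res (kernel T.g) g c))
    (appₗ_comp_zero (kernel.ι T.g) T.g (kernel.condition T.g) _)
  refine ⟨m, appₗ_injective (kernel.ι T.g) Z ?_⟩
  rw [← hm, ← appₗ_comp, kernel.lift_ι]

theorem shortExact_of_sections {F A B C : ModEt X.obj} (uA : F ⟶ A) (uB : F ⟶ B) (α : A ⟶ C) (β : B ⟶ C)
    (hz : ∀ (W : EtOver X.obj) (m : sectModEt F W), appₗ α W (appₗ uA W m) = appₗ β W (appₗ uB W m))
    (hinj : ∀ (W : EtOver X.obj) (m m' : sectModEt F W), appₗ uA W m = appₗ uA W m' →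
      appₗ uB W m = appₗ uB W m' → m = m')
    (hexa : ∀ (W : EtOver X.obj) (a : sectModEt A W) (b : sectModEt B W), appₗ α W a = appₗ β W b →
      ∃ m, appₗ uA W m = a ∧ appₗ uB W m = b)
    (hsur : ∀ (W : EtOver X.obj) (s : sectModEt C W), ∃ R ∈ etTop X.obj W, ∀ ⦃Z : EtOver X.obj⦄ (g : Z ⟶ W),
      R g → ∃ a b, appₗ α Z a - appₗ β Z b = res C g s) :
    ∃ h : biprod.lift uA uB ≫ biprod.desc α (-β) = 0, (ShortComplex.mk _ _ h).ShortExact := by
  have hzero : biprod.lift uA uB ≫ biprod.desc α (-β) = 0 := by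
    rw [biprod.lift_desc, Preadditive.comp_neg, add_neg_eq_zero]
    ext ⟨W⟩ m
    exact hz W m
  have e : biprod.desc α (-β) = biprod.fst ≫ α - biprod.snd ≫ β := by
    apply biprod.hom_ext' <;> simp
  have hψ : ∀ (W : EtOver X.obj) (t : sectModEt (A ⊞ B) W), appₗ (biprod.desc α (-β)) W t =
      appₗ α W (appₗ (biprod.fst : A ⊞ B ⟶ A) W t) - appₗ β W (appₗ (biprod.snd : A ⊞ B ⟶ B) W t) := by
    intro W t
    rw [e]
    rfl
  refine ⟨hzero, ?_⟩
  have hmono : Mono (biprod.lift uA uB) := mono_of_injective _ fun W m m' h => by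
    have h1 := congrArg (appₗ (biprod.fst : A ⊞ B ⟶ A) W) h
    have h2 := congrArg (appₗ (biprod.snd : A ⊞ B ⟶ B) W) h
    rw [← appₗ_comp, ← appₗ_comp, biprod.lift_fst] at h1
    rw [← appₗ_comp, ← appₗ_comp, biprod.lift_snd] at h2
    exact hinj W m m' h1 h2
  have hepi : Epi (biprod.desc α (-β)) := by
    refine epi_of_local _ fun W s => ?_
    obtain ⟨R, hR, hl⟩ := hsur W s
    refine ⟨R, hR, fun Z g hg => ?_⟩
    obtain ⟨a, b, hab⟩ := hl g hg
    refine ⟨appₗ (biprod.inl : A ⟶ A ⊞ B) Z a + appₗ (biprod.inr : B ⟶ A ⊞ B) Z b, ?_⟩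
    rw [map_add, ← appₗ_comp, ← appₗ_comp, biprod.inl_desc, biprod.inr_desc, ← hab, sub_eq_add_neg]
    rfl
  have hex : (ShortComplex.mk _ _ hzero).Exact := by
    refine exact_of_sections _ fun Z (t : sectModEt (A ⊞ B) Z) ht => ?_
    obtain ⟨m, h₁, h₂⟩ := hexa Z _ _ (sub_eq_zero.1 ((hψ Z t).symm.trans ht))
    refine ⟨m, ?_⟩
    have htot : appₗ (biprod.inl : A ⟶ A ⊞ B) Z (appₗ (biprod.fst : A ⊞ B ⟶ A) Z t) +
        appₗ (biprod.inr : B ⟶ A ⊞ B) Z (appₗ (biprod.snd : A ⊞ B ⟶ B) Z t) = t :=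
      congrArg (fun k => appₗ k Z t) (biprod.total (X := A) (Y := B))
    refine Eq.trans ?_ htot
    show appₗ (biprod.lift uA uB) Z m = _
    rw [← h₁, ← h₂, biprod.lift_eq]
    rfl
  exact { exact := hex, mono_f := hmono, epi_g := hepi }

theorem shortExact {U V : EtOver X.obj} (hsq : IsElemDistSq U.obj.hom V.obj.hom) (F : ModEt X.obj) :
    ∃ h : biprod.lift ((resPushAdjEt U).unit.app F) ((resPushAdjEt V).unit.app F) ≫
        biprod.desc ((pushResNatTrans (EtOver.prodFst U V)).app F)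
          (-((pushResNatTrans (EtOver.prodSnd U V)).app F)) = 0,
      (ShortComplex.mk _ _ h).ShortExact := by
  have hP := EtOver.prodIsLimit U V
  refine shortExact_of_sections _ _ _ _ (fun W m => ?_) (fun W m m' h h' => ext_two hsq F W h h')
    (fun W a b h => exact_sections hsq F W hP a b h) fun W s => ?_
  · show res F (Limits.prod.map (EtOver.prodFst U V) (𝟙 W)) (res F Limits.prod.snd m) =
      res F (Limits.prod.map (EtOver.prodSnd U V) (𝟙 W)) (res F Limits.prod.snd m)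
    rw [← res_comp, ← res_comp, Limits.prod.map_snd, Limits.prod.map_snd]
  · let Y : Bool → EtOver X.obj := fun i => cond i (U ⨯ W) (V ⨯ W)
    let k : ∀ i, Y i ⟶ W := fun i => match i with
      | true => Limits.prod.snd
      | false => Limits.prod.snd
    refine ⟨Sieve.ofArrows Y k, ofArrows_mem_etTop Y k fun x =>
      (cover_UV hsq W x).elim (fun h => ⟨true, h⟩) fun h => ⟨false, h⟩, ?_⟩
    rintro Z g ⟨Y', q, p, ⟨i⟩, rfl⟩
    have hW : Nonempty (Z ⟶ U) ∨ Nonempty (Z ⟶ V) := by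
      cases i
      · exact Or.inr ⟨q ≫ Limits.prod.fst⟩
      · exact Or.inl ⟨q ≫ Limits.prod.fst⟩
    obtain ⟨a, b, hab⟩ := surj_sections hsq F hP Z hW
      (res ((resModEt (EtOver.prodObj U V) ⋙ pushOnModEt (EtOver.prodObj U V)).obj F) (q ≫ k i) s)
    exact ⟨a, b, hab⟩

end Groth.Agent.MVEt32
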