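import Groth.Agent.Lib.MVEt32.Main
import Groth.Agent.Lib.ModGab32.Basic
import Mathlib.CategoryTheory.Abelian.GrothendieckCategory.EnoughInjectives
import Mathlib.CategoryTheory.Adjunction.Mates
import Mathlib.Algebra.Homology.ShortComplex.ShortExact

/-!
# Extension by zero Mayer-Vietoris sequence by adjunction
-/

set_option autoImplicit false
set_option backward.isDefEq.respectTransparency false
universe v w u

open CategoryTheory CategoryTheory.Limits

namespace Groth.Agent.MVEt32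

section Abstract

variable {A : Type w} [Category.{v} A] [Abelian A] [EnoughInjectives A]

theorem homEquiv_conjugate {L R L' R' : A ⥤ A} (a : L ⊣ R) (a' : L' ⊣ R') (τ : R ⟶ R') {F G : A}
    (x : L.obj F ⟶ G) :
    a'.homEquiv F G (((conjugateEquiv a a').symm τ).app F ≫ x) = a.homEquiv F G x ≫ τ.app G := by
  have h := unit_conjugateEquiv a a' ((conjugateEquiv a a').symm τ) F
  rw [Equiv.apply_symm_apply] at h
  rw [Adjunction.homEquiv_unit, Adjunction.homEquiv_unit, Functor.map_comp, ← Category.assoc, ← h,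
    Category.assoc, Category.assoc, τ.naturality]

theorem shortExact_of_adjunctions {L₁ R₁ L₂ R₂ L₃ R₃ : A ⥤ A} [R₁.Additive] [R₂.Additive] [R₃.Additive]
    (a₁ : L₁ ⊣ R₁) (a₂ : L₂ ⊣ R₂) (a₃ : L₃ ⊣ R₃) (η₁ : 𝟭 A ⟶ R₁) (η₂ : 𝟭 A ⟶ R₂)
    (τ₁ : R₁ ⟶ R₃) (τ₂ : R₂ ⟶ R₃)
    (hR : ∀ G : A, ∃ h : biprod.lift (η₁.app G) (η₂.app G) ≫ biprod.desc (τ₁.app G) (-τ₂.app G) = 0,
      (ShortComplex.mk _ _ h).ShortExact)
    (F : A) (c₁ : L₁.obj F ⟶ F) (c₂ : L₂.obj F ⟶ F)
    (hc₁ : a₁.homEquiv F F c₁ = η₁.app F) (hc₂ : a₂.homEquiv F F c₂ = η₂.app F) :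
    ∃ h : biprod.lift (((conjugateEquiv a₁ a₃).symm τ₁).app F) (-((conjugateEquiv a₂ a₃).symm τ₂).app F) ≫
        biprod.desc c₁ c₂ = 0,
      (ShortComplex.mk _ _ h).ShortExact := by
  let σ₁ := ((conjugateEquiv a₁ a₃).symm τ₁).app F
  let σ₂ := ((conjugateEquiv a₂ a₃).symm τ₂).app F
  have hcomp : ∀ {G : A} (x : F ⟶ G), a₁.homEquiv F G (c₁ ≫ x) = x ≫ η₁.app G ∧
      a₂.homEquiv F G (c₂ ≫ x) = x ≫ η₂.app G := fun {G} x => by
    constructor
    · rw [Adjunction.homEquiv_naturality_right, hc₁]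
      exact (η₁.naturality x).symm
    · rw [Adjunction.homEquiv_naturality_right, hc₂]
      exact (η₂.naturality x).symm
  have hsub : ∀ {G : A} (x : L₁.obj F ⟶ G) (y : L₂.obj F ⟶ G), σ₁ ≫ x - σ₂ ≫ y = 0 ↔
      a₁.homEquiv F G x ≫ τ₁.app G = a₂.homEquiv F G y ≫ τ₂.app G := fun {G} x y => by
    rw [sub_eq_zero, ← homEquiv_conjugate a₁ a₃ τ₁ x, ← homEquiv_conjugate a₂ a₃ τ₂ y]
    exact ((a₃.homEquiv F G).injective.eq_iff).symm
  have hz : biprod.lift σ₁ (-σ₂) ≫ biprod.desc c₁ c₂ = 0 := by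
    rw [biprod.lift_desc, Preadditive.neg_comp, ← sub_eq_add_neg, hsub, hc₁, hc₂]
    obtain ⟨h, -⟩ := hR F
    rw [biprod.lift_desc, Preadditive.comp_neg, add_neg_eq_zero] at h
    exact h
  refine ⟨hz, ?_⟩
  have hepi : Epi (biprod.desc c₁ c₂) := Preadditive.epi_of_cancel_zero _ fun {G} x hx => by
    obtain ⟨h, hS⟩ := hR G
    haveI := hS.mono_f
    have h1 := congrArg (biprod.inl ≫ ·) hx
    have h2 := congrArg (biprod.inr ≫ ·) hx
    simp only [biprod.inl_desc_assoc, biprod.inr_desc_assoc, comp_zero] at h1 h2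
    have e₁ := (hcomp x).1
    have e₂ := (hcomp x).2
    rw [h1] at e₁
    rw [h2] at e₂
    simp only [Adjunction.homEquiv_unit, Functor.map_zero, comp_zero] at e₁ e₂
    refine zero_of_comp_mono (biprod.lift (η₁.app G) (η₂.app G)) (biprod.hom_ext _ _ ?_ ?_)
    · simp only [Category.assoc, biprod.lift_fst, zero_comp]; exact e₁.symm
    · simp only [Category.assoc, biprod.lift_snd, zero_comp]; exact e₂.symm
  have hmono : Mono (biprod.lift σ₁ (-σ₂)) := Preadditive.mono_of_cancel_zero _ fun {Z} z hz' => by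
    let G := Injective.under (L₃.obj F)
    obtain ⟨h, hS⟩ := hR G
    haveI : Injective (ShortComplex.mk _ _ h).X₁ := inferInstanceAs (Injective (Injective.under (L₃.obj F)))
    let sp := hS.splittingOfInjective
    let φ := a₃.homEquiv F G (Injective.ι (L₃.obj F))
    let x := (a₁.homEquiv F G).symm (φ ≫ sp.s ≫ biprod.fst)
    let y := (a₂.homEquiv F G).symm (φ ≫ sp.s ≫ biprod.snd)
    have key : σ₁ ≫ x - σ₂ ≫ y = Injective.ι (L₃.obj F) := by
      refine (a₃.homEquiv F G).injective ?_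
      have hadd : ∀ p q : L₃.obj F ⟶ G, a₃.homEquiv F G (p - q) = a₃.homEquiv F G p - a₃.homEquiv F G q :=
        fun p q => by simp only [Adjunction.homEquiv_unit, Functor.map_sub, Preadditive.comp_sub]
      rw [hadd, homEquiv_conjugate, homEquiv_conjugate, Equiv.apply_symm_apply, Equiv.apply_symm_apply]
      have h' := sp.s_g
      change sp.s ≫ biprod.desc (τ₁.app G) (-τ₂.app G) = 𝟙 _ at h'
      have e : biprod.fst ≫ τ₁.app G - biprod.snd ≫ τ₂.app G = biprod.desc (τ₁.app G) (-τ₂.app G) := by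
        apply biprod.hom_ext' <;> simp
      calc (φ ≫ sp.s ≫ biprod.fst) ≫ τ₁.app G - (φ ≫ sp.s ≫ biprod.snd) ≫ τ₂.app G
          = φ ≫ sp.s ≫ (biprod.fst ≫ τ₁.app G - biprod.snd ≫ τ₂.app G) := by
            simp only [Preadditive.comp_sub, Category.assoc]
        _ = φ ≫ sp.s ≫ biprod.desc (τ₁.app G) (-τ₂.app G) :=
            congrArg (φ ≫ ·) (congrArg (sp.s ≫ ·) e)
        _ = φ := (congrArg (φ ≫ ·) h').trans (Category.comp_id _)
    refine zero_of_comp_mono (Injective.ι (L₃.obj F)) ?_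
    have h2 := congrArg (· ≫ biprod.desc x y) hz'
    simp only [Category.assoc, biprod.lift_desc, zero_comp, Preadditive.neg_comp, ← sub_eq_add_neg] at h2
    rwa [key] at h2
  have hex : (ShortComplex.mk _ _ hz).Exact := by
    refine ShortComplex.exact_of_g_is_cokernel _ (CokernelCofork.IsColimit.ofπ' _ _ fun {G} k hk => ?_)
    have hS := (hR G).choose_spec
    haveI := hS.mono_f
    have hk' : σ₁ ≫ (biprod.inl ≫ k) - σ₂ ≫ (biprod.inr ≫ k) = 0 := by
      have : biprod.desc (biprod.inl ≫ k) (biprod.inr ≫ k) = k := by apply biprod.hom_ext' <;> simp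
      rw [← this] at hk
      simpa [sub_eq_add_neg] using hk
    rw [hsub] at hk'
    let t : F ⟶ R₁.obj G ⊞ R₂.obj G :=
      biprod.lift (a₁.homEquiv F G (biprod.inl ≫ k)) (a₂.homEquiv F G (biprod.inr ≫ k))
    have ht : t ≫ biprod.desc (τ₁.app G) (-τ₂.app G) = 0 := by
      rw [biprod.lift_desc, Preadditive.comp_neg, add_neg_eq_zero, hk']
    refine ⟨hS.exact.lift t ht, ?_⟩
    have hl := hS.exact.lift_f t ht
    apply biprod.hom_ext'
    · rw [biprod.inl_desc_assoc]
      refine (a₁.homEquiv F G).injective ?_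
      rw [(hcomp _).1]
      simpa [t] using congrArg (· ≫ biprod.fst) hl
    · rw [biprod.inr_desc_assoc]
      refine (a₂.homEquiv F G).injective ?_
      rw [(hcomp _).2]
      simpa [t] using congrArg (· ≫ biprod.snd) hl
  exact { exact := hex, mono_f := hmono, epi_g := hepi }

end Abstract

open AlgebraicGeometry AlgSp

theorem shriekResAdj_counit {S : Scheme.{u}} {X : Space S} (U : EtOver X.obj) [(resModEt U).IsRightAdjoint]
    (F : ModEt X.obj) :
    (shriekResAdj U).homEquiv F F ((Adjunction.ofIsRightAdjoint (resModEt U)).counit.app F) =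
      (resPushAdjEt U).unit.app F := by
  rw [shriekResAdj, Adjunction.homEquiv_unit, Adjunction.comp_unit_app]
  simp only [Functor.comp_map, Category.assoc, ← Functor.map_comp, Adjunction.right_triangle_components,
    CategoryTheory.Functor.map_id, Category.comp_id]

theorem shriek_shortExact {S : Scheme.{u}} {X : Space S} {U V : EtOver X.obj}
    (hsq : IsElemDistSq U.obj.hom V.obj.hom) [(resModEt U).IsRightAdjoint] [(resModEt V).IsRightAdjoint]
    [(resModEt (EtOver.prodObj U V)).IsRightAdjoint] (F : ModEt X.obj) :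
    ∃ h : biprod.lift ((shriekResNatTrans (EtOver.prodFst U V)).app F)
          (-((shriekResNatTrans (EtOver.prodSnd U V)).app F)) ≫
        biprod.desc ((Adjunction.ofIsRightAdjoint (resModEt U)).counit.app F)
          ((Adjunction.ofIsRightAdjoint (resModEt V)).counit.app F) = 0,
      (ShortComplex.mk _ _ h).ShortExact := by
  haveI : IsGrothendieckAbelian.{u + 1} (ModEt X.obj) := ModGab32.isGrothendieckAbelian (OEtRing X.obj)
  exact shortExact_of_adjunctions (shriekResAdj U) (shriekResAdj V) (shriekResAdj (EtOver.prodObj U V))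
    (resPushAdjEt U).unit (resPushAdjEt V).unit (pushResNatTrans (EtOver.prodFst U V))
    (pushResNatTrans (EtOver.prodSnd U V)) (shortExact hsq) F _ _
    (shriekResAdj_counit U F) (shriekResAdj_counit V F)

end Groth.Agent.MVEt32
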